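import Cfsg.Agent.Lib.Helper12.TC.Suzo22880.Tab
import Cfsg.Agent.Lib.Helper12.TC.Fn.LowerParts

/-! checks for the lower bound of the order, part 1 (generated, helper12) -/

set_option autoImplicit false
set_option maxRecDepth 100000

namespace Cfsg.Agent.Lib.Helper12.TC.Suzo22880

open Cfsg.Agent.Lib.Helper12.TC

theorem hs8_1 : Fn.slpColK TT 8 [2, 1, 4, 1, 7, 7, 7, 6, 3, 1, 7, 0, 6, 6, 0, 7, 4, 3, 1, 5, 0, 0, 0, 0] 4800 4800 = true := by decide +kernel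

theorem hs14_5 : Fn.slpColK TT 14 [13, 13, 11, 12, 9, 10, 8, 10, 8, 8, 4, 2, 0, 0, 3, 7, 2, 0, 6, 3, 5, 1, 3, 6, 3, 7, 1, 6, 4, 7, 0, 5, 6, 4] 17140 3428 = true := by decide +kernel

theorem hs12_5 : Fn.slpColK TT 12 [11, 11, 11, 11, 11, 4, 2, 4, 4, 7, 5, 7, 7, 1, 0, 4, 6, 5, 6, 3, 4, 1, 4, 3, 6, 0, 3, 0, 6] 20000 2880 = true := by decide +kernel

theorem hs15_7 : Fn.slpColK TT 15 [14, 14, 10, 14, 12, 12, 9, 10, 12, 8, 8, 10, 8, 9, 0, 2, 3, 5, 2, 5, 6, 3, 4, 1, 6, 5, 7, 3, 1, 0, 1, 2, 2, 2, 3, 4, 5, 4] 21532 1348 = true := by decide +kernel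

end Cfsg.Agent.Lib.Helper12.TC.Suzo22880
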