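import Cfsg.Agent.Lib.Helper12.TC.Suzo22880.Tab
import Cfsg.Agent.Lib.Helper12.TC.Fn.LowerParts

/-! checks for the lower bound of the order, part 10 (generated, helper12) -/

set_option autoImplicit false
set_option maxRecDepth 100000

namespace Cfsg.Agent.Lib.Helper12.TC.Suzo22880

open Cfsg.Agent.Lib.Helper12.TC

theorem hs12_2 : Fn.slpColK TT 12 [11, 11, 11, 11, 11, 4, 2, 4, 4, 7, 5, 7, 7, 1, 0, 4, 6, 5, 6, 3, 4, 1, 4, 3, 6, 0, 3, 0, 6] 8000 4000 = true := by decide +kernel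

theorem hs16_0 : Fn.slpColK TT 16 [14, 14, 15, 15, 13, 14, 13, 9, 13, 15, 9, 8, 8, 10, 11, 12, 5, 5, 5, 1, 4, 3, 7, 2, 1, 5, 0, 6, 1, 6, 2, 2, 5, 1, 6, 1, 3, 1, 4, 5] 0 2926 = true := by decide +kernel

theorem hs16_3 : Fn.slpColK TT 16 [14, 14, 15, 15, 13, 14, 13, 9, 13, 15, 9, 8, 8, 10, 11, 12, 5, 5, 5, 1, 4, 3, 7, 2, 1, 5, 0, 6, 1, 6, 2, 2, 5, 1, 6, 1, 3, 1, 4, 5] 8778 2926 = true := by decide +kernel

end Cfsg.Agent.Lib.Helper12.TC.Suzo22880
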