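import Cfsg.Agent.Lib.Helper12.TC.Suzo22880.Tab
import Cfsg.Agent.Lib.Helper12.TC.Fn.LowerParts

/-! checks for the lower bound of the order, part 16 (generated, helper12) -/

set_option autoImplicit false
set_option maxRecDepth 100000

namespace Cfsg.Agent.Lib.Helper12.TC.Suzo22880

open Cfsg.Agent.Lib.Helper12.TC

theorem hs13_3 : Fn.slpColK TT 13 [11, 12, 9, 9, 10, 9, 8, 10, 8, 9, 9, 10, 2, 0, 2, 7, 6, 3, 7, 3, 0, 6, 5, 6, 0, 4, 2, 3, 0, 4, 1, 1, 4, 4, 2, 6] 9729 3243 = true := by decide +kernel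

theorem hs14_0 : Fn.slpColK TT 14 [13, 13, 11, 12, 9, 10, 8, 10, 8, 8, 4, 2, 0, 0, 3, 7, 2, 0, 6, 3, 5, 1, 3, 6, 3, 7, 1, 6, 4, 7, 0, 5, 6, 4] 0 3428 = true := by decide +kernel

theorem hn0_0 : Fn.eqWordsK TT [0, 7, 0] [7] 0 22880 = true := by decide +kernel

theorem hs11_5 : Fn.slpColK TT 11 [8, 10, 8, 5, 7, 0, 3, 2, 2, 1, 4, 0, 1, 1, 0, 7, 0, 4, 3, 4, 1, 2, 5, 4, 1, 2, 2] 21425 1455 = true := by decide +kernel

end Cfsg.Agent.Lib.Helper12.TC.Suzo22880
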