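import Cfsg.Agent.Lib.Helper12.TC.Suzo22880.Tab
import Cfsg.Agent.Lib.Helper12.TC.Fn.LowerParts

/-! checks for the lower bound of the order, part 21 (generated, helper12) -/

set_option autoImplicit false
set_option maxRecDepth 100000

namespace Cfsg.Agent.Lib.Helper12.TC.Suzo22880

open Cfsg.Agent.Lib.Helper12.TC

theorem hs7_1 : Fn.slpColK TT 7 [1, 2, 3, 2, 3, 1, 2, 3, 2, 3, 1, 2, 3, 2, 3, 1, 2, 3, 2, 3, 1, 2, 3, 2, 3] 4615 4615 = true := by decide +kernel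

theorem hs11_0 : Fn.slpColK TT 11 [8, 10, 8, 5, 7, 0, 3, 2, 2, 1, 4, 0, 1, 1, 0, 7, 0, 4, 3, 4, 1, 2, 5, 4, 1, 2, 2] 0 4285 = true := by decide +kernel

theorem hs7_4 : Fn.slpColK TT 7 [1, 2, 3, 2, 3, 1, 2, 3, 2, 3, 1, 2, 3, 2, 3, 1, 2, 3, 2, 3, 1, 2, 3, 2, 3] 18460 4420 = true := by decide +kernel

end Cfsg.Agent.Lib.Helper12.TC.Suzo22880
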