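import Cfsg.Agent.Lib.Helper12.TC.Suzo22880.Tab
import Cfsg.Agent.Lib.Helper12.TC.Fn.LowerParts

/-! checks for the lower bound of the order, part 4 (generated, helper12) -/

set_option autoImplicit false
set_option maxRecDepth 100000

namespace Cfsg.Agent.Lib.Helper12.TC.Suzo22880

open Cfsg.Agent.Lib.Helper12.TC

theorem hs9_0 : Fn.slpColK TT 9 [6, 3, 6, 0, 3, 7, 7, 3, 5, 3, 3, 7, 4, 0, 6, 1, 2, 4, 1, 5, 6, 3, 4, 4] 0 4800 = true := by decide +kernel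

theorem hs10_2 : Fn.slpColK TT 10 [9, 9, 9, 9, 9, 9, 9, 9, 9, 9, 8, 8, 8, 8, 9, 9, 9, 9, 9, 8, 3, 0, 3, 3, 6, 5, 5, 7, 4, 0, 6, 2, 3, 6, 0, 7, 5, 3, 6, 7, 5, 6, 5, 0] 5332 2666 = true := by decide +kernel

theorem hs15_1 : Fn.slpColK TT 15 [14, 14, 10, 14, 12, 12, 9, 10, 12, 8, 8, 10, 8, 9, 0, 2, 3, 5, 2, 5, 6, 3, 4, 1, 6, 5, 7, 3, 1, 0, 1, 2, 2, 2, 3, 4, 5, 4] 3076 3076 = true := by decide +kernel

end Cfsg.Agent.Lib.Helper12.TC.Suzo22880
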