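import Cfsg.Agent.Lib.Helper12.TC.Suzo22880.Main
import Cfsg.Agent.Lib.Helper12.TC.Suzo22880.Lev0
import Cfsg.Agent.Lib.Helper12.TC.Suzo22880.Lev1
import Cfsg.Agent.Lib.Helper12.TC.Suzo22880.Lev2
import Cfsg.Agent.Lib.Helper12.TC.Suzo22880.Lev3
import Cfsg.Agent.Lib.Helper12.TC.Suzo22880.Lev4
import Cfsg.Agent.Lib.Helper12.TC.Suzo22880.Lev5
import Cfsg.Agent.Lib.Helper12.TC.Suzo22880.Lev6
import Cfsg.Agent.Lib.Helper12.TC.Suzo22880.Lev7
import Cfsg.Agent.Lib.Helper12.TC.Suzo22880.Lev8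
import Cfsg.Agent.Lib.Helper12.TC.Suzo22880.Lev9
import Cfsg.Agent.Lib.Helper12.TC.Suzo22880.Lev10
import Cfsg.Agent.Lib.Helper12.TC.Suzo22880.Lev11
import Cfsg.Agent.Lib.Helper12.TC.Suzo22880.Lev12
import Cfsg.Agent.Lib.Helper12.TC.Suzo22880.Lev13
import Cfsg.Agent.Lib.Helper12.TC.Suzo22880.Lev14
import Cfsg.Agent.Lib.Helper12.TC.Suzo22880.Lev15
import Cfsg.Agent.Lib.Helper12.TC.Suzo22880.Lev16
import Cfsg.Agent.Lib.Helper12.TC.Suzo22880.Lev17
import Cfsg.Agent.Lib.Helper12.TC.Suzo22880.Lev18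
import Cfsg.Agent.Lib.Helper12.TC.Suzo22880.Lev19
import Cfsg.Agent.Lib.Helper12.TC.Suzo22880.Lev20
import Cfsg.Agent.Lib.Helper12.TC.Suzo22880.Lev21
import Cfsg.Agent.Lib.Helper12.TC.Suzo22880.Lev22

/-! the permutation representation and the lower bound for the order for Suzo22880 (generated, helper12) -/

set_option autoImplicit false
set_option maxRecDepth 100000

namespace Cfsg.Agent.Lib.Helper12.TC.Suzo22880

open Cfsg.Agent.Lib.Helper12.TC Cfsg.Agent.Lib.Helper12.TC.SuzPres

/-- the permutation representation -/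
noncomputable def rho : (PresentedGroup (Cfsg.Spor.coxRelators Cfsg.Spor.Suz.edges ∪
      {r | r ∈ Cfsg.Spor.Suz.extra})) →* Equiv.Perm (Fin cN) := mainRho.choose

theorem rho_gen : ∀ x < 7, ∀ i : Fin cN, ((rho ((PresentedGroup.mk (Cfsg.Spor.coxRelators Cfsg.Spor.Suz.edges ∪
      {r | r ∈ Cfsg.Spor.Suz.extra}))
    (FreeGroup.of (gen x))) i : Fin cN) : ℕ) = TT x i := mainRho.choose_spec.1

theorem rho_index : ((Subgroup.closure S).map (PresentedGroup.mk (Cfsg.Spor.coxRelators Cfsg.Spor.Suz.edges ∪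
      {r | r ∈ Cfsg.Spor.Suz.extra}))).index = cN := mainRho.choose_spec.2.1

theorem rho_equiv : ∃ Φ : ((PresentedGroup (Cfsg.Spor.coxRelators Cfsg.Spor.Suz.edges ∪
      {r | r ∈ Cfsg.Spor.Suz.extra})) ⧸
    (Subgroup.closure S).map (PresentedGroup.mk (Cfsg.Spor.coxRelators Cfsg.Spor.Suz.edges ∪
      {r | r ∈ Cfsg.Spor.Suz.extra}))) ≃ Fin cN,
    ∀ γ : (PresentedGroup (Cfsg.Spor.coxRelators Cfsg.Spor.Suz.edges ∪
      {r | r ∈ Cfsg.Spor.Suz.extra})), Φ (γ : (PresentedGroup (Cfsg.Spor.coxRelators Cfsg.Spor.Suz.edges ∪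
      {r | r ∈ Cfsg.Spor.Suz.extra})) ⧸
      (Subgroup.closure S).map (PresentedGroup.mk (Cfsg.Spor.coxRelators Cfsg.Spor.Suz.edges ∪
      {r | r ∈ Cfsg.Spor.Suz.extra}))) = rho γ ⟨0, hN0⟩ := mainRho.choose_spec.2.2

/-- the words of the further columns -/
def prog : List (List ℕ) :=
  [[1, 2, 3, 2, 3, 1, 2, 3, 2, 3, 1, 2, 3, 2, 3, 1, 2, 3, 2, 3, 1, 2, 3, 2, 3],
   [2, 1, 4, 1, 7, 7, 7, 6, 3, 1, 7, 0, 6, 6, 0, 7, 4, 3, 1, 5, 0, 0, 0, 0],
   [6, 3, 6, 0, 3, 7, 7, 3, 5, 3, 3, 7, 4, 0, 6, 1, 2, 4, 1, 5, 6, 3, 4, 4],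
   [9, 9, 9, 9, 9, 9, 9, 9, 9, 9, 8, 8, 8, 8, 9, 9, 9, 9, 9, 8, 3, 0, 3, 3, 6, 5, 5, 7, 4, 0, 6, 2, 3, 6, 0, 7, 5, 3, 6, 7, 5, 6, 5, 0],
   [8, 10, 8, 5, 7, 0, 3, 2, 2, 1, 4, 0, 1, 1, 0, 7, 0, 4, 3, 4, 1, 2, 5, 4, 1, 2, 2],
   [11, 11, 11, 11, 11, 4, 2, 4, 4, 7, 5, 7, 7, 1, 0, 4, 6, 5, 6, 3, 4, 1, 4, 3, 6, 0, 3, 0, 6],
   [11, 12, 9, 9, 10, 9, 8, 10, 8, 9, 9, 10, 2, 0, 2, 7, 6, 3, 7, 3, 0, 6, 5, 6, 0, 4, 2, 3, 0, 4, 1, 1, 4, 4, 2, 6],
   [13, 13, 11, 12, 9, 10, 8, 10, 8, 8, 4, 2, 0, 0, 3, 7, 2, 0, 6, 3, 5, 1, 3, 6, 3, 7, 1, 6, 4, 7, 0, 5, 6, 4],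
   [14, 14, 10, 14, 12, 12, 9, 10, 12, 8, 8, 10, 8, 9, 0, 2, 3, 5, 2, 5, 6, 3, 4, 1, 6, 5, 7, 3, 1, 0, 1, 2, 2, 2, 3, 4, 5, 4],
   [14, 14, 15, 15, 13, 14, 13, 9, 13, 15, 9, 8, 8, 10, 11, 12, 5, 5, 5, 1, 4, 3, 7, 2, 1, 5, 0, 6, 1, 6, 2, 2, 5, 1, 6, 1, 3, 1, 4, 5]]

theorem hcol7 : Fn.ColOK TT 7 [1, 2, 3, 2, 3, 1, 2, 3, 2, 3, 1, 2, 3, 2, 3, 1, 2, 3, 2, 3, 1, 2, 3, 2, 3] cN :=
  Fn.colOK_step hs7_4 rfl
    (Fn.colOK_step hs7_3 rfl
    (Fn.colOK_step hs7_2 rfl
    (Fn.colOK_step hs7_1 rfl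
    (Fn.colOK_step hs7_0 rfl
    (Fn.colOK_start TT 7 [1, 2, 3, 2, 3, 1, 2, 3, 2, 3, 1, 2, 3, 2, 3, 1, 2, 3, 2, 3, 1, 2, 3, 2, 3])))))

theorem hstep7 : Fn.slpStepK TT cN 7 [1, 2, 3, 2, 3, 1, 2, 3, 2, 3, 1, 2, 3, 2, 3, 1, 2, 3, 2, 3, 1, 2, 3, 2, 3] = true :=
  Fn.slpStepK_of_colOK (by decide) hcol7

theorem hcol8 : Fn.ColOK TT 8 [2, 1, 4, 1, 7, 7, 7, 6, 3, 1, 7, 0, 6, 6, 0, 7, 4, 3, 1, 5, 0, 0, 0, 0] cN :=
  Fn.colOK_step hs8_4 rfl
    (Fn.colOK_step hs8_3 rfl
    (Fn.colOK_step hs8_2 rfl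
    (Fn.colOK_step hs8_1 rfl
    (Fn.colOK_step hs8_0 rfl
    (Fn.colOK_start TT 8 [2, 1, 4, 1, 7, 7, 7, 6, 3, 1, 7, 0, 6, 6, 0, 7, 4, 3, 1, 5, 0, 0, 0, 0])))))

theorem hstep8 : Fn.slpStepK TT cN 8 [2, 1, 4, 1, 7, 7, 7, 6, 3, 1, 7, 0, 6, 6, 0, 7, 4, 3, 1, 5, 0, 0, 0, 0] = true :=
  Fn.slpStepK_of_colOK (by decide) hcol8

theorem hcol9 : Fn.ColOK TT 9 [6, 3, 6, 0, 3, 7, 7, 3, 5, 3, 3, 7, 4, 0, 6, 1, 2, 4, 1, 5, 6, 3, 4, 4] cN :=
  Fn.colOK_step hs9_4 rfl
    (Fn.colOK_step hs9_3 rfl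
    (Fn.colOK_step hs9_2 rfl
    (Fn.colOK_step hs9_1 rfl
    (Fn.colOK_step hs9_0 rfl
    (Fn.colOK_start TT 9 [6, 3, 6, 0, 3, 7, 7, 3, 5, 3, 3, 7, 4, 0, 6, 1, 2, 4, 1, 5, 6, 3, 4, 4])))))

theorem hstep9 : Fn.slpStepK TT cN 9 [6, 3, 6, 0, 3, 7, 7, 3, 5, 3, 3, 7, 4, 0, 6, 1, 2, 4, 1, 5, 6, 3, 4, 4] = true :=
  Fn.slpStepK_of_colOK (by decide) hcol9

theorem hcol10 : Fn.ColOK TT 10 [9, 9, 9, 9, 9, 9, 9, 9, 9, 9, 8, 8, 8, 8, 9, 9, 9, 9, 9, 8, 3, 0, 3, 3, 6, 5, 5, 7, 4, 0, 6, 2, 3, 6, 0, 7, 5, 3, 6, 7, 5, 6, 5, 0] cN :=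
  Fn.colOK_step hs10_8 rfl
    (Fn.colOK_step hs10_7 rfl
    (Fn.colOK_step hs10_6 rfl
    (Fn.colOK_step hs10_5 rfl
    (Fn.colOK_step hs10_4 rfl
    (Fn.colOK_step hs10_3 rfl
    (Fn.colOK_step hs10_2 rfl
    (Fn.colOK_step hs10_1 rfl
    (Fn.colOK_step hs10_0 rfl
    (Fn.colOK_start TT 10 [9, 9, 9, 9, 9, 9, 9, 9, 9, 9, 8, 8, 8, 8, 9, 9, 9, 9, 9, 8, 3, 0, 3, 3, 6, 5, 5, 7, 4, 0, 6, 2, 3, 6, 0, 7, 5, 3, 6, 7, 5, 6, 5, 0])))))))))

theorem hstep10 : Fn.slpStepK TT cN 10 [9, 9, 9, 9, 9, 9, 9, 9, 9, 9, 8, 8, 8, 8, 9, 9, 9, 9, 9, 8, 3, 0, 3, 3, 6, 5, 5, 7, 4, 0, 6, 2, 3, 6, 0, 7, 5, 3, 6, 7, 5, 6, 5, 0] = true :=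
  Fn.slpStepK_of_colOK (by decide) hcol10

theorem hcol11 : Fn.ColOK TT 11 [8, 10, 8, 5, 7, 0, 3, 2, 2, 1, 4, 0, 1, 1, 0, 7, 0, 4, 3, 4, 1, 2, 5, 4, 1, 2, 2] cN :=
  Fn.colOK_step hs11_5 rfl
    (Fn.colOK_step hs11_4 rfl
    (Fn.colOK_step hs11_3 rfl
    (Fn.colOK_step hs11_2 rfl
    (Fn.colOK_step hs11_1 rfl
    (Fn.colOK_step hs11_0 rfl
    (Fn.colOK_start TT 11 [8, 10, 8, 5, 7, 0, 3, 2, 2, 1, 4, 0, 1, 1, 0, 7, 0, 4, 3, 4, 1, 2, 5, 4, 1, 2, 2]))))))

theorem hstep11 : Fn.slpStepK TT cN 11 [8, 10, 8, 5, 7, 0, 3, 2, 2, 1, 4, 0, 1, 1, 0, 7, 0, 4, 3, 4, 1, 2, 5, 4, 1, 2, 2] = true :=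
  Fn.slpStepK_of_colOK (by decide) hcol11

theorem hcol12 : Fn.ColOK TT 12 [11, 11, 11, 11, 11, 4, 2, 4, 4, 7, 5, 7, 7, 1, 0, 4, 6, 5, 6, 3, 4, 1, 4, 3, 6, 0, 3, 0, 6] cN :=
  Fn.colOK_step hs12_5 rfl
    (Fn.colOK_step hs12_4 rfl
    (Fn.colOK_step hs12_3 rfl
    (Fn.colOK_step hs12_2 rfl
    (Fn.colOK_step hs12_1 rfl
    (Fn.colOK_step hs12_0 rfl
    (Fn.colOK_start TT 12 [11, 11, 11, 11, 11, 4, 2, 4, 4, 7, 5, 7, 7, 1, 0, 4, 6, 5, 6, 3, 4, 1, 4, 3, 6, 0, 3, 0, 6]))))))

theorem hstep12 : Fn.slpStepK TT cN 12 [11, 11, 11, 11, 11, 4, 2, 4, 4, 7, 5, 7, 7, 1, 0, 4, 6, 5, 6, 3, 4, 1, 4, 3, 6, 0, 3, 0, 6] = true :=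
  Fn.slpStepK_of_colOK (by decide) hcol12

theorem hcol13 : Fn.ColOK TT 13 [11, 12, 9, 9, 10, 9, 8, 10, 8, 9, 9, 10, 2, 0, 2, 7, 6, 3, 7, 3, 0, 6, 5, 6, 0, 4, 2, 3, 0, 4, 1, 1, 4, 4, 2, 6] cN :=
  Fn.colOK_step hs13_7 rfl
    (Fn.colOK_step hs13_6 rfl
    (Fn.colOK_step hs13_5 rfl
    (Fn.colOK_step hs13_4 rfl
    (Fn.colOK_step hs13_3 rfl
    (Fn.colOK_step hs13_2 rfl
    (Fn.colOK_step hs13_1 rfl
    (Fn.colOK_step hs13_0 rfl
    (Fn.colOK_start TT 13 [11, 12, 9, 9, 10, 9, 8, 10, 8, 9, 9, 10, 2, 0, 2, 7, 6, 3, 7, 3, 0, 6, 5, 6, 0, 4, 2, 3, 0, 4, 1, 1, 4, 4, 2, 6]))))))))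

theorem hstep13 : Fn.slpStepK TT cN 13 [11, 12, 9, 9, 10, 9, 8, 10, 8, 9, 9, 10, 2, 0, 2, 7, 6, 3, 7, 3, 0, 6, 5, 6, 0, 4, 2, 3, 0, 4, 1, 1, 4, 4, 2, 6] = true :=
  Fn.slpStepK_of_colOK (by decide) hcol13

theorem hcol14 : Fn.ColOK TT 14 [13, 13, 11, 12, 9, 10, 8, 10, 8, 8, 4, 2, 0, 0, 3, 7, 2, 0, 6, 3, 5, 1, 3, 6, 3, 7, 1, 6, 4, 7, 0, 5, 6, 4] cN :=
  Fn.colOK_step hs14_6 rfl
    (Fn.colOK_step hs14_5 rfl
    (Fn.colOK_step hs14_4 rfl
    (Fn.colOK_step hs14_3 rfl
    (Fn.colOK_step hs14_2 rfl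
    (Fn.colOK_step hs14_1 rfl
    (Fn.colOK_step hs14_0 rfl
    (Fn.colOK_start TT 14 [13, 13, 11, 12, 9, 10, 8, 10, 8, 8, 4, 2, 0, 0, 3, 7, 2, 0, 6, 3, 5, 1, 3, 6, 3, 7, 1, 6, 4, 7, 0, 5, 6, 4])))))))

theorem hstep14 : Fn.slpStepK TT cN 14 [13, 13, 11, 12, 9, 10, 8, 10, 8, 8, 4, 2, 0, 0, 3, 7, 2, 0, 6, 3, 5, 1, 3, 6, 3, 7, 1, 6, 4, 7, 0, 5, 6, 4] = true :=
  Fn.slpStepK_of_colOK (by decide) hcol14

theorem hcol15 : Fn.ColOK TT 15 [14, 14, 10, 14, 12, 12, 9, 10, 12, 8, 8, 10, 8, 9, 0, 2, 3, 5, 2, 5, 6, 3, 4, 1, 6, 5, 7, 3, 1, 0, 1, 2, 2, 2, 3, 4, 5, 4] cN :=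
  Fn.colOK_step hs15_7 rfl
    (Fn.colOK_step hs15_6 rfl
    (Fn.colOK_step hs15_5 rfl
    (Fn.colOK_step hs15_4 rfl
    (Fn.colOK_step hs15_3 rfl
    (Fn.colOK_step hs15_2 rfl
    (Fn.colOK_step hs15_1 rfl
    (Fn.colOK_step hs15_0 rfl
    (Fn.colOK_start TT 15 [14, 14, 10, 14, 12, 12, 9, 10, 12, 8, 8, 10, 8, 9, 0, 2, 3, 5, 2, 5, 6, 3, 4, 1, 6, 5, 7, 3, 1, 0, 1, 2, 2, 2, 3, 4, 5, 4]))))))))

theorem hstep15 : Fn.slpStepK TT cN 15 [14, 14, 10, 14, 12, 12, 9, 10, 12, 8, 8, 10, 8, 9, 0, 2, 3, 5, 2, 5, 6, 3, 4, 1, 6, 5, 7, 3, 1, 0, 1, 2, 2, 2, 3, 4, 5, 4] = true :=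
  Fn.slpStepK_of_colOK (by decide) hcol15

theorem hcol16 : Fn.ColOK TT 16 [14, 14, 15, 15, 13, 14, 13, 9, 13, 15, 9, 8, 8, 10, 11, 12, 5, 5, 5, 1, 4, 3, 7, 2, 1, 5, 0, 6, 1, 6, 2, 2, 5, 1, 6, 1, 3, 1, 4, 5] cN :=
  Fn.colOK_step hs16_7 rfl
    (Fn.colOK_step hs16_6 rfl
    (Fn.colOK_step hs16_5 rfl
    (Fn.colOK_step hs16_4 rfl
    (Fn.colOK_step hs16_3 rfl
    (Fn.colOK_step hs16_2 rfl
    (Fn.colOK_step hs16_1 rfl
    (Fn.colOK_step hs16_0 rfl
    (Fn.colOK_start TT 16 [14, 14, 15, 15, 13, 14, 13, 9, 13, 15, 9, 8, 8, 10, 11, 12, 5, 5, 5, 1, 4, 3, 7, 2, 1, 5, 0, 6, 1, 6, 2, 2, 5, 1, 6, 1, 3, 1, 4, 5]))))))))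

theorem hstep16 : Fn.slpStepK TT cN 16 [14, 14, 15, 15, 13, 14, 13, 9, 13, 15, 9, 8, 8, 10, 11, 12, 5, 5, 5, 1, 4, 3, 7, 2, 1, 5, 0, 6, 1, 6, 2, 2, 5, 1, 6, 1, 3, 1, 4, 5] = true :=
  Fn.slpStepK_of_colOK (by decide) hcol16

theorem hslp : Fn.slpAllK TT cN 7 prog = true :=
  Fn.slpAllK_cons hstep7
    (Fn.slpAllK_cons hstep8
    (Fn.slpAllK_cons hstep9
    (Fn.slpAllK_cons hstep10
    (Fn.slpAllK_cons hstep11
    (Fn.slpAllK_cons hstep12
    (Fn.slpAllK_cons hstep13
    (Fn.slpAllK_cons hstep14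
    (Fn.slpAllK_cons hstep15
    (Fn.slpAllK_cons hstep16
    (Fn.slpAllK_nil TT cN 17))))))))))

theorem hslpl : Fn.slpLettersK 7 prog = true := by decide

/-- the generators and the further elements -/
noncomputable def uu : ℕ → (PresentedGroup (Cfsg.Spor.coxRelators Cfsg.Spor.Suz.edges ∪
      {r | r ∈ Cfsg.Spor.Suz.extra})) :=
  Fn.slpRun prog 7 (fun x => (PresentedGroup.mk (Cfsg.Spor.coxRelators Cfsg.Spor.Suz.edges ∪
      {r | r ∈ Cfsg.Spor.Suz.extra})) (FreeGroup.of (gen x)))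

theorem rho_uu : ∀ x < 17, ∀ i : Fin cN, ((rho (uu x) i : Fin cN) : ℕ) = TT x i :=
  (Fn.slp_sound rho TT prog 7 _ rho_gen hslp).1

theorem uu_gen : ∀ x < 7, uu x = (PresentedGroup.mk (Cfsg.Spor.coxRelators Cfsg.Spor.Suz.edges ∪
      {r | r ∈ Cfsg.Spor.Suz.extra})) (FreeGroup.of (gen x)) :=
  (Fn.slp_sound rho TT prog 7 _ rho_gen hslp).2.1

theorem uu_spec : ∀ (k : ℕ) (w : List ℕ), prog[k]? = some w → uu (7 + k) = wprod uu w :=
  Fn.slpRun_spec prog 7 _ hslpl

theorem hn0 : rho (wprod uu [0, 7, 0]) = rho (wprod uu [7]) :=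
  Fn.rho_wprod_eq rho TT uu 17 rho_uu (by decide) (by decide)
    (Fn.wordsEq_step hn0_0 rfl
    (Fn.wordsEq_start TT [0, 7, 0] [7]))

theorem hn1 : rho (wprod uu [1, 7, 1]) = rho (wprod uu [7]) :=
  Fn.rho_wprod_eq rho TT uu 17 rho_uu (by decide) (by decide)
    (Fn.wordsEq_step hn1_0 rfl
    (Fn.wordsEq_start TT [1, 7, 1] [7]))

theorem hn2 : rho (wprod uu [2, 7, 2]) = rho (wprod uu [7]) :=
  Fn.rho_wprod_eq rho TT uu 17 rho_uu (by decide) (by decide)
    (Fn.wordsEq_step hn2_0 rfl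
    (Fn.wordsEq_start TT [2, 7, 2] [7]))

theorem hn3 : rho (wprod uu [3, 7, 3]) = rho (wprod uu [7, 7]) :=
  Fn.rho_wprod_eq rho TT uu 17 rho_uu (by decide) (by decide)
    (Fn.wordsEq_step hn3_0 rfl
    (Fn.wordsEq_start TT [3, 7, 3] [7, 7]))

theorem hn4 : rho (wprod uu [5, 7, 5]) = rho (wprod uu [7]) :=
  Fn.rho_wprod_eq rho TT uu 17 rho_uu (by decide) (by decide)
    (Fn.wordsEq_step hn4_0 rfl
    (Fn.wordsEq_start TT [5, 7, 5] [7]))

theorem hn5 : rho (wprod uu [6, 7, 6]) = rho (wprod uu [7]) :=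
  Fn.rho_wprod_eq rho TT uu 17 rho_uu (by decide) (by decide)
    (Fn.wordsEq_step hn5_0 rfl
    (Fn.wordsEq_start TT [6, 7, 6] [7]))

theorem htree0 : Fn.TreeOK hN0 rho uu 17 [8, 9, 11, 10, 12, 13, 14, 15, 16] 0 36838402768750368004727255956054429196374205238803523496491351630112239846186658993923697845393769865033488665857318763598328210126780534867505512728719920322990050484374651490277886420299092845462914320131629659034635387892314380280455032497910396796566200835374273606349243748237502492753938264288985262275537846651506629893900937652831516998878597841105125525662242982027253412618229614516683078996898578321877379813713781798080110879847045445727685480462494500542831105536583366259155412963672240973260989553949284536636758781778727907192375700278185863748414129916949273344880748382677508605113243048262537750033228174487263630976717129165237628392784769608421113811388241231742116652202932615766674812276549863368620438986358363877294805176452588367159048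730107726362217156982233750214304481050747992747046296166340969969362756484107639934765589592856671318769232977250937293760964220332058325077590625510704034516071514476396253504111542350786659754026041794204456181036207095752377336401762181114284609210946587834393453819108425100293820020154267588882189597302074313639666540039058561939314988450088663199092210340903915502465777234037104575442269753620051241312736947532672830906828411457425278244527009055193500043246965908884484779452361922434022802875040070278300646656681902026006800369107773619189482608492172909856569471144032706607853604177541501193871644468741874767015776001669671626984617284157243314376946320868328919275508026992231342622049105492614908566632072763726352032352745758229474427092803251884314218670660444089777219452559954862826136329932291036990832549680106567616374468061776629444880137987008815424829684301750807752588346815040401809446770777380260056564567711244937167365220452985232255780395880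383245134199164109385524356494456354979891919377396803847171745858184134987631532675274528676825717231881387260785124709003643641708328151656819656982093516334325083796043093661821828883841383515900909685090331750730824350777984773647757469406500105690079494868432376611180118332349281500110529224682890309119031173927558155680727353109048804778531528019740206728383007048027226542741745989881154095505397180660567702331756969399576356166454684023209492175917357581980606656557393874173475974999088397473019524307505479828988502757399404413221593193175489660855735707588057918890050740895989637966546198491280448708626704600240743214350816053614606418270935124192825938602205499622408359198993030502279650975814716541462979218531028010676002153317595180906377742013884743110182015191012792784565399510988112512117504693237507165489155129724142113108155224711855392733745616582733485106943971906197794115470947810145653594830893898306190779371887876373639482168641360058374016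516418057782704127602667762235070644396277556326500946320186369728114680503970004920944703610775228605429538075905387733909660402534789037155603113667412347120950955677624074982743289542619039470858271064671528116753354801917970802129362849278048253940091675788215062494549538626582446664818906181319979813482275154445780866868915205807208885743536277376482255685495742896338820912742167476888122014053447624534971998826107073382117984502302452495306544095545789921176216687192456173320701019911843819355533326785615906643997354383626326239924282427894580106238328547062169428103848859815509767007835243729179408034966205089607163317686540888456815970699248801490810445008962296371695371387303397874237483007592644858907256761903659899034491122603456366409130170656955923961675341917672211994676319014318308117023745840063684313115137283583118621515449676142688138217765321276097016381386608180079653702793936830565856407874503154707277511147712394207407678328955548417598281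846805805356056972095372302097193646762484841545544840217625453579957768433547462440707770286141072216582388555975690820838925716656766982426529465761243008994805066584490406426484543394059015333853549019830083043132911767974402633912535855411161118047512396216016048174666104572910426926487900405219217069848696904628527259490734855741224417337073607748619590602372361117143405854310999524347304505078343157823669139912126184484570661814320324611278162269381275970714515958458778065139811432020086935114514939224451926314800786773606200276465628715734571231583174271156950153335180174572334927452915322581825128345311300362689324711670368259288298975892790251269944929268386461279100408479504310866357953779777119405966705942561307908304522175357401144839560333685641632414123473240636976115034652842716566951185079972769023711612713750812667092112230682080206136624655175901438697297753916492469367388649219835726051774388180283312184844672501925935505314108915986973130281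852129113669280835478902890915152324869221698124638032063445559054178517395205867864690794087625181764395022271950045118004827696167398653784990887571800935318261673226183854182694847800651052774665312267469431799532288807750412671381411682178436902173780361026355649754183866445809638470840148573286935282337745257013855197676730844213567338655381455849507668480059122378272209260261322835906946518981191093717642195017053875231026153340175126528721897478645932816838245765056461954035481650065420652476913792621030842565240789090744388907058398495524564411754610121467609257393113381462689736063677609865207968405056991606755605730899496150818123770179630493046782895284431662933078130942545417628597573005521780795230373870118570062745677204199187526255844887392871633761588911597545291448442222175405358104638390363488252202353920011254836875107169229746380968808432901533123528146229710434737730650995074305031935246561727232017431460836134545277528514196744881979945672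3784112369528261212039167304550216931991426165199544330106847395655269752995572960845549044205588787298182319937119655777958635408168456915649520725718686327169402494887372411070280556631101522608195072976214651410516123538209715230999551503414143250218133196055239057516205711155914379969881561663223264496533067993132698794278968545377916570505008150815350769894533288916486592019019573587109087829538927871838534386500613028156889345168169576792487912676715125346509186638702396900617769545967393714949880715443076256682102157791051857704346036257016260248868805707633496800217124506673286442554358809242252441282001728088724072788054811771204882180942410143079838009517621853556452887478647268942269644117947605743391661326210470667388437346363684333392389950619730782686577632181170907038878772038917832255536388440639866181151331228645522151524341814154927710558934172167482809907965164518116515905758284832952781627094421458329824850840315159741705248968820562184700342191456048740394295615162784996115893417603416333377069121970874211313588307635410064840059018600861354396557745493970297762611149910784299626195862789407005763139622594229644361665772566454923184406820180006093178778705068326530445703533668288269889069606921007596605250994175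 22880 :=
  Fn.treeOK_step hN0 rho TT uu 17 rho_uu ht0_6 rfl
    (Fn.treeOK_step hN0 rho TT uu 17 rho_uu ht0_5 rfl
    (Fn.treeOK_step hN0 rho TT uu 17 rho_uu ht0_4 rfl
    (Fn.treeOK_step hN0 rho TT uu 17 rho_uu ht0_3 rfl
    (Fn.treeOK_step hN0 rho TT uu 17 rho_uu ht0_2 rfl
    (Fn.treeOK_step hN0 rho TT uu 17 rho_uu ht0_1 rfl
    (Fn.treeOK_step hN0 rho TT uu 17 rho_uu ht0_0 rfl
    (Fn.treeOK_start hN0 rho uu 17 [8, 9, 11, 10, 12, 13, 14, 15, 16] 0 (by decide))))))))

theorem hlev0 : Fn.LevelOK hN0 rho [] 0 22880 :=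
  Fn.levelOK_of_tree hN0 rho TT uu 17 rho_uu (by decide) (by decide) hgens0 htree0

theorem htree1 : Fn.TreeOK hN0 rho uu 17 [9, 11, 10, 12, 13, 14, 15, 16] 1 399583814440447005616844445413525287135820562261116307309972090832047582568929999375399181192126972308457847183540047730617340886948900519205142526 486 :=
  Fn.treeOK_step hN0 rho TT uu 17 rho_uu ht1_0 rfl
    (Fn.treeOK_start hN0 rho uu 17 [9, 11, 10, 12, 13, 14, 15, 16] 1 (by decide))

theorem hlev1 : Fn.LevelOK hN0 rho [0] 1 486 :=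
  Fn.levelOK_of_tree hN0 rho TT uu 17 rho_uu (by decide) (by decide) hgens1 htree1

theorem htree2 : Fn.TreeOK hN0 rho uu 17 [10, 12, 13, 14, 15, 16] 2 2914003338338593606379193161536161658524286923031067278960903629764006366009516504924 56 :=
  Fn.treeOK_step hN0 rho TT uu 17 rho_uu ht2_0 rfl
    (Fn.treeOK_start hN0 rho uu 17 [10, 12, 13, 14, 15, 16] 2 (by decide))

theorem hlev2 : Fn.LevelOK hN0 rho [1, 0] 2 56 :=
  Fn.levelOK_of_tree hN0 rho TT uu 17 rho_uu (by decide) (by decide) hgens2 htree2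

theorem htree3 : Fn.TreeOK hN0 rho uu 17 [14, 15, 16] 3 95704643873912184455820546424041256792 45 :=
  Fn.treeOK_step hN0 rho TT uu 17 rho_uu ht3_0 rfl
    (Fn.treeOK_start hN0 rho uu 17 [14, 15, 16] 3 (by decide))

theorem hlev3 : Fn.LevelOK hN0 rho [2, 1, 0] 3 45 :=
  Fn.levelOK_of_tree hN0 rho TT uu 17 rho_uu (by decide) (by decide) hgens3 htree3

theorem htree4 : Fn.TreeOK hN0 rho uu 17 [15, 16] 4 22196398208848 16 :=
  Fn.treeOK_step hN0 rho TT uu 17 rho_uu ht4_0 rfl
    (Fn.treeOK_start hN0 rho uu 17 [15, 16] 4 (by decide))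

theorem hlev4 : Fn.LevelOK hN0 rho [3, 2, 1, 0] 4 16 :=
  Fn.levelOK_of_tree hN0 rho TT uu 17 rho_uu (by decide) (by decide) hgens4 htree4

theorem hlevels : Fn.LevelsOK hN0 rho [] [(0, 22880), (1, 486), (2, 56), (3, 45), (4, 16)] :=
  Fn.levelsOK_cons hN0 rho hlev0
    (Fn.levelsOK_cons hN0 rho hlev1
    (Fn.levelsOK_cons hN0 rho hlev2
    (Fn.levelsOK_cons hN0 rho hlev3
    (Fn.levelsOK_cons hN0 rho hlev4
    (Fn.levelsOK_nil hN0 rho _)))))

/-- the lower bound for the order, and the injectivity of the representation if it is attained -/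
theorem lower [Finite (PresentedGroup (Cfsg.Spor.coxRelators Cfsg.Spor.Suz.edges ∪
      {r | r ∈ Cfsg.Spor.Suz.extra}))] :
    448345497600 ≤ Nat.card (PresentedGroup (Cfsg.Spor.coxRelators Cfsg.Spor.Suz.edges ∪
      {r | r ∈ Cfsg.Spor.Suz.extra})) ∧
    (Nat.card (PresentedGroup (Cfsg.Spor.coxRelators Cfsg.Spor.Suz.edges ∪
      {r | r ∈ Cfsg.Spor.Suz.extra})) ≤ 448345497600 → Function.Injective rho) := by
  have h := Fn.order_lower_parts hN0 rho [(0, 22880), (1, 486), (2, 56), (3, 45), (4, 16)] hlevels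
  have e : (([(0, 22880), (1, 486), (2, 56), (3, 45), (4, 16)] : List (ℕ × ℕ)).map Prod.snd).prod = 448345497600 := by decide
  rw [e] at h
  exact h

end Cfsg.Agent.Lib.Helper12.TC.Suzo22880
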